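import Cfsg.Agent.Lib.GoldschmidtFunctor.Fixed
import Cfsg.Agent.Lib.Coprime.Commutator

/-!
# Goldschmidt's functor of two core-separated four-subgroups is balanced

The odd order theorem enters as a hypothesis, through the generation of coprime fixed points.
-/

set_option autoImplicit false

namespace Cfsg.Agent.GoldschmidtFunctor

open Subgroup
open scoped commutatorElement
open Cfsg (pCore pPrimeCore IsComponent centralizerPPrimeCore)
open Cfsg.Agent.Balance
open Cfsg.Agent.FTConsumers (OddOrder)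

universe u

variable {G : Type u} [Group G] [Finite G] {A₁ A₂ : Subgroup G}

theorem Separated.pow_two (h : Separated A₁ A₂) {a : G} (ha : a ∈ A₁ ⊔ A₂) : a ^ 2 = 1 := by
  obtain ⟨x, hx, y, hy, rfl⟩ := h.exists_mul ha
  rw [Commute.mul_pow (h.comm x hx y hy), h.el₁.2 x hx, h.el₂.2 y hy, one_mul]

theorem Separated.isPGroup₁ (h : Separated A₁ A₂) : IsPGroup 2 A₁ :=
  fun x => ⟨1, Subtype.ext (by simpa using h.el₁.2 _ x.2)⟩

theorem Separated.exists_ne_one_of_cyclic (h : Separated A₁ A₂) {B₀ : Subgroup G} (hle : B₀ ≤ A₁)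
    (hcyc : ∀ [(B₀.subgroupOf A₁).Normal], IsCyclic (↥A₁ ⧸ B₀.subgroupOf A₁)) :
    ∃ c ∈ B₀, c ≠ 1 := by
  by_contra hno
  push Not at hno
  haveI : (B₀.subgroupOf A₁).Normal :=
    ⟨fun n hn g => by
      have h1 : g * n * g⁻¹ = n := Subtype.ext (by
        rw [coe_mul, coe_mul, h.comm₁ g.2 n.2, coe_inv, mul_inv_cancel_right])
      rwa [h1]⟩
  haveI := hcyc
  obtain ⟨g, hg⟩ := IsCyclic.exists_generator (α := ↥A₁ ⧸ B₀.subgroupOf A₁)
  have hcard : Nat.card (↥A₁ ⧸ B₀.subgroupOf A₁) = 4 := by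
    have hbot : B₀.subgroupOf A₁ = ⊥ := (eq_bot_iff_forall _).2 fun x hx => Subtype.ext (hno _ hx)
    rw [← index_eq_card, hbot, index_bot, h.card₁]
  rw [← orderOf_eq_card_of_forall_mem_zpowers hg] at hcard
  obtain ⟨x, rfl⟩ := QuotientGroup.mk'_surjective _ g
  have h2 : orderOf (QuotientGroup.mk' (B₀.subgroupOf A₁) x) ∣ 2 := orderOf_dvd_of_pow_eq_one (by
    rw [← map_pow, show x ^ 2 = 1 from Subtype.ext (by simpa using h.el₁.2 _ x.2), map_one])
  rw [hcard] at h2
  omega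

variable (hFT : OddOrder.{u}) (h : Separated A₁ A₂)

include hFT h

/-- `C(A₁) ∩ [O(C(a)), A₁] ≤ O(C(A₁))`. -/
theorem Separated.fixed_le_core {a : G} (ha : a ∈ A₁ ⊔ A₂) :
    ⁅centralizerPPrimeCore 2 a, A₁⁆ ⊓ centralizer (A₁ : Set G) ≤
      core' 2 (centralizer (A₁ : Set G)) := by
  haveI : Fact (Nat.Prime 2) := ⟨Nat.prime_two⟩
  set H := centralizer (A₁ : Set G) with hH
  set O := centralizerPPrimeCore 2 a with hO
  have hAa : A₁ ⊔ A₂ ≤ centralizer ({a} : Set G) := h.le_centralizer ha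
  have hAO : A₁ ≤ normalizer (O : Set G) :=
    le_sup_left.trans (hAa.trans (le_normalizer_centralizerPPrimeCore a))
  set Y := ⁅O, A₁⁆ with hY
  have hYO : Y ≤ O := Coprime.commutator_le_left_of_le_normalizer hAO
  set W := Y ⊓ H with hW
  have hOodd := coprime_centralizerPPrimeCore a
  have hWodd : (Nat.card W).Coprime 2 :=
    hOodd.coprime_dvd_left (card_dvd_of_le (inf_le_left.trans hYO))
  set a' : ↥H := ⟨a, h.mem_centralizer₁ ha⟩
  have ha2 : IsPGroup 2 (zpowers a') := fun z => ⟨1, Subtype.ext (by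
    obtain ⟨i, hi⟩ := z.2
    rw [pow_one, Subgroup.coe_pow, Subgroup.coe_one, ← hi, ← zpow_natCast, ← zpow_mul, mul_comm,
      zpow_mul, zpow_natCast, show a' ^ 2 = 1 from Subtype.ext (h.pow_two ha), one_zpow])⟩
  have hcore := map_le_core'_centR ha2 (D := W.subgroupOf H)
    (hWodd.coprime_dvd_left (by rw [Nat.card_congr (subgroupOfEquivOfLe inf_le_right).toEquiv]))
    (fun z hz => mem_centralizer_singleton_iff.2 (Subtype.ext
      (mem_centralizer_singleton_iff.1 (centralizerPPrimeCore_le a (hYO (mem_inf.1 hz).1)))))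
    (fun z hz => by
      have hz' : (z : G) ∈ normalizer (W : Set G) := by
        refine inf_normalizer_le_normalizer_inf ⟨?_, le_normalizer z.2⟩
        refine Coprime.le_normalizer_commutator (C := centralizer ({a} : Set G) ⊓ H)
          (inf_le_left.trans (le_normalizer_centralizerPPrimeCore a)) inf_le_right ⟨?_, z.2⟩
        exact mem_centralizer_singleton_iff.2 (congrArg Subtype.val (mem_centralizer_singleton_iff.1 hz))
      rw [mem_normalizer_iff] at hz' ⊢
      exact fun w => hz' (w : G))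
  intro w hw
  refine ⟨⟨w, hw.2⟩, ?_, rfl⟩
  set q := QuotientGroup.mk' (pPrimeCore 2 ↥H)
  have hmem := hcore (mem_map_of_mem q (show (⟨w, hw.2⟩ : ↥H) ∈ W.subgroupOf H from hw))
  refine mem_oddCore ((hWodd.coprime_dvd_left ?_)) (fun z hz => ?_) fun M hM => ?_
  · have := orderOf_dvd_natCard (⟨w, hw⟩ : W)
    rwa [Subgroup.orderOf_mk, ← Subgroup.orderOf_mk w hw.2] at this
  · exact (mem_centralizer_iff.1 (mem_inf.1 (core'_le _ hmem)).2 z hz).symm
  have hqa2 : (q a') ^ 2 = 1 := by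
    rw [← map_pow, show a' ^ 2 = 1 from Subtype.ext (h.pow_two ha), map_one]
  by_cases hfix : ∀ m ∈ M, Commute (q a') m
  · exact commute_of_fixed PCore.pPrimeCore_quotient_self_eq_bot
      (by rw [← MonoidHom.map_zpowers]; exact ha2.map q) hmem hM hfix
  by_cases hmove : q a' ∈ normalizer (M : Set _)
  swap
  · exact commute_of_moved PCore.pPrimeCore_quotient_self_eq_bot hqa2 hmem hM hmove
  suffices hle : W ≤ fixing H M from mem_fixing.1 (hle hw)
  have hcop : (Nat.card A₁).Coprime (Nat.card O) := h.coprime₁ hOodd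
  have hsol : Group.IsSolvable ↥A₁ := by
    haveI := h.isPGroup₁.isNilpotent
    infer_instance
  have hAY : A₁ ≤ normalizer (Y : Set G) := normalizer_commutator_ge_right O A₁
  have hgen := FTConsumersB.fixed_generation hFT A₁ A₁ Y h.isPGroup₁ h.el₁.1 le_rfl
    (Nat.coprime_two_right.1 (hOodd.coprime_dvd_left (card_dvd_of_le hYO))) hAY
    (Coprime.commutator_commutator_eq hAO hcop (Or.inl hsol))
  show W ≤ _
  refine hgen.le.trans (iSup_le fun B₀ => ?_)
  obtain ⟨c, hcB, hc1⟩ := h.exists_ne_one_of_cyclic B₀.2.1 B₀.2.2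
  refine le_trans (le_inf (inf_le_left.trans inf_le_right) (inf_le_right.trans ?_))
    (h.piece_le_fixing ha (B₀.2.1 hcB) hc1 hM hmove hfix fun v hv => ?_)
  · exact commutator_mono (inf_le_inf hYO (centralizer_le (Set.singleton_subset_iff.2 hcB))) le_rfl
  · refine mem_normalizer_of_mem_core' PCore.pPrimeCore_quotient_self_eq_bot
      (R := zpowers (q a')) (by rw [← MonoidHom.map_zpowers]; exact ha2.map q) ?_ hM
    refine map_le_core'_centR ha2 (D := (O ⊓ H).subgroupOf H) ?_ ?_ ?_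
      (mem_map_of_mem q (show v ∈ (O ⊓ H).subgroupOf H from ⟨hv, v.2⟩))
    · exact (hOodd.coprime_dvd_left (card_dvd_of_le inf_le_left)).coprime_dvd_left
        (by rw [Nat.card_congr (subgroupOfEquivOfLe inf_le_right).toEquiv])
    · exact fun z hz => mem_centralizer_singleton_iff.2 (Subtype.ext
        (mem_centralizer_singleton_iff.1 (centralizerPPrimeCore_le a (mem_inf.1 hz).1)))
    · intro z hz
      have hz' : (z : G) ∈ normalizer ((O ⊓ H : Subgroup G) : Set G) :=
        inf_normalizer_le_normalizer_inf ⟨le_normalizer_centralizerPPrimeCore a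
          (mem_centralizer_singleton_iff.2 (congrArg Subtype.val (mem_centralizer_singleton_iff.1 hz))),
          le_normalizer z.2⟩
      rw [mem_normalizer_iff] at hz' ⊢
      exact fun w => hz' (w : G)

/-- `C(A₁) ∩ ([O(C(a)), A₁] (O(C(a)) ∩ O(C(A₁)))) ≤ O(C(A₁))`. -/
theorem Separated.fixed_sup_le_core {a : G} (ha : a ∈ A₁ ⊔ A₂) :
    (⁅centralizerPPrimeCore 2 a, A₁⁆ ⊔
      (centralizerPPrimeCore 2 a ⊓ core' 2 (centralizer (A₁ : Set G)))) ⊓ centralizer (A₁ : Set G) ≤
        core' 2 (centralizer (A₁ : Set G)) := by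
  set O := centralizerPPrimeCore 2 a
  set U := O ⊓ core' 2 (centralizer (A₁ : Set G))
  have hU : U ≤ normalizer ((⁅O, A₁⁆ : Subgroup G) : Set G) :=
    inf_le_left.trans (normalizer_commutator_ge_left O A₁)
  intro z hz
  obtain ⟨hz1, hz2⟩ := mem_inf.1 hz
  rw [← SetLike.mem_coe, coe_mul_of_right_le_normalizer_left _ _ hU] at hz1
  obtain ⟨y, hy, u, hu, rfl⟩ := hz1
  have huH : u ∈ centralizer (A₁ : Set G) := core'_le _ (mem_inf.1 hu).2
  have hyH : y ∈ centralizer (A₁ : Set G) := by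
    have := mul_mem hz2 (inv_mem huH)
    simpa using this
  exact mul_mem (h.fixed_le_core hFT ha ⟨hy, hyH⟩) (mem_inf.1 hu).2

omit hFT in
/-- The factor of the functor at `A₁`. -/
theorem Separated.le_factor {a b : G} (ha : a ∈ A₁ ⊔ A₂) :
    (⁅centralizerPPrimeCore 2 a, A₁⁆ ⊔
      (centralizerPPrimeCore 2 a ⊓ core' 2 (centralizer (A₁ : Set G)))) ≤
        centralizerPPrimeCore 2 a ∧
    (b ∈ A₁ ⊔ A₂ → b ∈ normalizer ((⁅centralizerPPrimeCore 2 a, A₁⁆ ⊔
      (centralizerPPrimeCore 2 a ⊓ core' 2 (centralizer (A₁ : Set G))) : Subgroup G) : Set G)) := by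
  have hA := (h.le_centralizer ha).trans (le_normalizer_centralizerPPrimeCore a)
  refine ⟨sup_le (Coprime.commutator_le_left_of_le_normalizer (le_sup_left.trans hA)) inf_le_left,
    fun hb => ?_⟩
  have hbc : A₁ ⊔ A₂ ≤ centralizer (A₁ : Set G) := fun x hx => h.mem_centralizer₁ hx
  have h1 : b ∈ normalizer ((⁅centralizerPPrimeCore 2 a, A₁⁆ : Subgroup G) : Set G) :=
    Coprime.le_normalizer_commutator hA hbc hb
  have h2 : b ∈ normalizer ((centralizerPPrimeCore 2 a ⊓ core' 2 (centralizer (A₁ : Set G)) :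
      Subgroup G) : Set G) :=
    inf_normalizer_le_normalizer_inf ⟨hA hb, le_normalizer_core' _ (hbc hb)⟩
  rw [mem_normalizer_iff_map_conj_eq] at h1 h2 ⊢
  rw [Subgroup.map_sup]
  exact congrArg₂ (· ⊔ ·) h1 h2

/-- Goldschmidt's functor. -/
abbrev theta (A₁ A₂ : Subgroup G) (a : G) : Subgroup G :=
  (⁅centralizerPPrimeCore 2 a, A₁⁆ ⊔ (centralizerPPrimeCore 2 a ⊓ core' 2 (centralizer (A₁ : Set G)))) ⊓
  (⁅centralizerPPrimeCore 2 a, A₂⁆ ⊔ (centralizerPPrimeCore 2 a ⊓ core' 2 (centralizer (A₂ : Set G))))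

omit hFT in
theorem Separated.theta_le_core {a : G} (ha : a ∈ A₁ ⊔ A₂) : theta A₁ A₂ a ≤ centralizerPPrimeCore 2 a :=
  inf_le_left.trans (h.le_factor (b := a) ha).1

omit hFT in
theorem Separated.theta_invariant {a b : G} (ha : a ∈ A₁ ⊔ A₂) (hb : b ∈ A₁ ⊔ A₂) :
    b ∈ normalizer (theta A₁ A₂ a : Set G) :=
  inf_normalizer_le_normalizer_inf ⟨(h.le_factor ha).2 hb,
    (h.symm.le_factor (sup_comm A₁ A₂ ▸ ha)).2 (sup_comm A₁ A₂ ▸ hb)⟩

omit hFT in
theorem Separated.le_normalizer_inter {a b : G} (ha : a ∈ A₁ ⊔ A₂) (hb : b ∈ A₁ ⊔ A₂) :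
    A₁ ⊔ A₂ ≤ normalizer ((theta A₁ A₂ a ⊓ centralizer ({b} : Set G) : Subgroup G) : Set G) :=
  fun _ hx => inf_normalizer_le_normalizer_inf
    ⟨h.theta_invariant ha hx, le_normalizer (h.le_centralizer hb hx)⟩

/-- `θ(a) ∩ C(b)` centralises a component of `C(b)` modulo core that `A₁` centralises. -/
theorem Separated.inter_le_fixing {a b : G} (ha : a ∈ A₁ ⊔ A₂) (hb : b ∈ A₁ ⊔ A₂)
    {M : Subgroup (↥(centralizer ({b} : Set G)) ⧸ pPrimeCore 2 ↥(centralizer ({b} : Set G)))}
    (hM : IsComponent M) (hfix : Fixes b A₁ M) :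
    theta A₁ A₂ a ⊓ centralizer ({b} : Set G) ≤ fixing (centralizer ({b} : Set G)) M := by
  haveI : Fact (Nat.Prime 2) := ⟨Nat.prime_two⟩
  set q := QuotientGroup.mk' (pPrimeCore 2 ↥(centralizer ({b} : Set G))) with hq
  set D := theta A₁ A₂ a ⊓ centralizer ({b} : Set G) with hD
  have hDO : D ≤ centralizerPPrimeCore 2 a := inf_le_left.trans (h.theta_le_core ha)
  have hA1D : A₁ ≤ normalizer (D : Set G) := le_sup_left.trans (h.le_normalizer_inter ha hb)
  have hDcop := (coprime_centralizerPPrimeCore a).coprime_dvd_left (card_dvd_of_le hDO)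
  have hOnorm : ∀ y : ↥(centralizer ({b} : Set G)), (y : G) ∈ centralizerPPrimeCore 2 a → q y ∈ normalizer (M : Set _) :=
    fun y hy => mem_normalizer_component (h.le_centralizer hb ha) (h.isPGroup_zpowers ha)
      (D := centralizerPPrimeCore 2 a ⊓ centralizer ({b} : Set G))
      ((coprime_centralizerPPrimeCore a).coprime_dvd_left (card_dvd_of_le inf_le_left))
      (inf_le_left.trans (centralizerPPrimeCore_le _))
      (fun z hz => inf_normalizer_le_normalizer_inf
        ⟨le_normalizer_centralizerPPrimeCore _ hz.1, le_normalizer hz.2⟩) inf_le_right hM y ⟨hy, y.2⟩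
  have hsol : Group.IsSolvable ↥A₁ := by
    haveI := h.isPGroup₁.isNilpotent
    infer_instance
  rw [← Coprime.commutator_sup_centralizer hA1D (h.coprime₁ hDcop) (Or.inl hsol)]
  refine sup_le ?_ ?_
  · refine commutator_le.2 fun y hy x hx => ?_
    have hxH : x ∈ centralizer ({b} : Set G) := h.le_centralizer hb (mem_sup_left hx)
    refine (mem_fixing (w := ⁅(⟨y, (mem_inf.1 hy).2⟩ : ↥(centralizer ({b} : Set G))), ⟨x, hxH⟩⁆)).2 ?_ |> fun hh => by
      simpa [commutatorElement_def] using hh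
    intro m hm
    rw [map_commutatorElement]
    exact commute_commutator_of_fixed (hOnorm _ (hDO hy)) (fun l hl => hfix _ hx l hl) m hm
  · intro z hz
    obtain ⟨hzD, hzA⟩ := mem_inf.1 hz
    have hzN : z ∈ core' 2 (centralizer (A₁ : Set G)) ⊓ centralizer ({b} : Set G) :=
      mem_inf.2 ⟨h.fixed_sup_le_core hFT ha ⟨(mem_inf.1 (mem_inf.1 hzD).1).1, hzA⟩, (mem_inf.1 hzD).2⟩
    refine (mem_fixing (w := ⟨z, (mem_inf.1 hzD).2⟩)).2 ?_
    set N := core' 2 (centralizer (A₁ : Set G)) ⊓ centralizer ({b} : Set G) with hN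
    refine commute_of_normalized PCore.pPrimeCore_quotient_self_eq_bot hM
      (N := (N.subgroupOf (centralizer ({b} : Set G))).map q) ?_ ?_ (mem_map_of_mem q hzN) (hOnorm _ (hDO hzD))
    · refine ((card_core'_coprime (centralizer (A₁ : Set G))).coprime_dvd_left
        (card_dvd_of_le (inf_le_left : N ≤ _))).coprime_dvd_left ((card_map_dvd _ q).trans ?_)
      rw [Nat.card_congr (subgroupOfEquivOfLe (inf_le_right : N ≤ centralizer ({b} : Set G))).toEquiv]
    · intro m hm
      obtain ⟨g, rfl⟩ := QuotientGroup.mk'_surjective (pPrimeCore 2 ↥(centralizer ({b} : Set G))) m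
      obtain ⟨g', hg', he⟩ := exists_mem_centralizer_of_map q
        (by rw [hq, QuotientGroup.ker_mk']; exact PCore.coprime_card_pPrimeCore)
        (R := A₁.subgroupOf (centralizer ({b} : Set G))) (h.isPGroup₁.comap_of_injective (centralizer ({b} : Set G)).subtype (centralizer ({b} : Set G)).subtype_injective)
        (g := g) (fun r hr => (hfix r hr (q g) hm).symm)
      rw [← he]
      refine le_normalizer_map q (mem_map_of_mem q ?_)
      have hgA : (g' : G) ∈ centralizer (A₁ : Set G) := mem_centralizer_iff.2 fun x hx =>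
        congrArg Subtype.val (mem_centralizer_iff.1 hg' ⟨x, h.le_centralizer hb (mem_sup_left hx)⟩ hx)
      have hn : (g' : G) ∈ normalizer (N : Set G) :=
        inf_normalizer_le_normalizer_inf ⟨le_normalizer_core' _ hgA, le_normalizer g'.2⟩
      rw [mem_normalizer_iff] at hn ⊢
      exact fun w => hn (w : G)

/-- `θ(a) ∩ C(b) ≤ O(C(b))`. -/
theorem Separated.inter_le_core {a b : G} (ha : a ∈ A₁ ⊔ A₂) (hb : b ∈ A₁ ⊔ A₂) (hb1 : b ≠ 1) :
    theta A₁ A₂ a ⊓ centralizer ({b} : Set G) ≤ centralizerPPrimeCore 2 b := by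
  haveI : Fact (Nat.Prime 2) := ⟨Nat.prime_two⟩
  set H := centralizer ({b} : Set G) with hH
  set q := QuotientGroup.mk' (pPrimeCore 2 ↥H) with hq
  set a' : ↥H := ⟨a, h.le_centralizer hb ha⟩
  have ha2 : IsPGroup 2 (zpowers a') := fun z => ⟨1, Subtype.ext (by
    obtain ⟨i, hi⟩ := z.2
    rw [pow_one, Subgroup.coe_pow, Subgroup.coe_one, ← hi, ← zpow_natCast, ← zpow_mul, mul_comm,
      zpow_mul, zpow_natCast, show a' ^ 2 = 1 from Subtype.ext (h.pow_two ha), one_zpow])⟩
  have hcore := map_le_core'_centR ha2 (D := (centralizerPPrimeCore 2 a ⊓ H).subgroupOf H)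
    (((coprime_centralizerPPrimeCore a).coprime_dvd_left (card_dvd_of_le inf_le_left)).coprime_dvd_left
      (by rw [Nat.card_congr (subgroupOfEquivOfLe inf_le_right).toEquiv]))
    (fun z hz => mem_centralizer_singleton_iff.2 (Subtype.ext
      (mem_centralizer_singleton_iff.1 (centralizerPPrimeCore_le a (mem_inf.1 hz).1))))
    (fun z hz => by
      have hz' : (z : G) ∈ normalizer ((centralizerPPrimeCore 2 a ⊓ H : Subgroup G) : Set G) :=
        inf_normalizer_le_normalizer_inf ⟨le_normalizer_centralizerPPrimeCore a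
          (mem_centralizer_singleton_iff.2 (congrArg Subtype.val (mem_centralizer_singleton_iff.1 hz))),
          le_normalizer z.2⟩
      rw [mem_normalizer_iff] at hz' ⊢
      exact fun w => hz' (w : G))
  intro d hd
  have hdO : d ∈ centralizerPPrimeCore 2 a := h.theta_le_core ha (mem_inf.1 hd).1
  refine ⟨⟨d, (mem_inf.1 hd).2⟩, ?_, rfl⟩
  have hmem := hcore (mem_map_of_mem q
    (show (⟨d, (mem_inf.1 hd).2⟩ : ↥H) ∈ (centralizerPPrimeCore 2 a ⊓ H).subgroupOf H from
      ⟨hdO, (mem_inf.1 hd).2⟩))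
  refine mem_oddCore ((coprime_centralizerPPrimeCore a).coprime_dvd_left ?_) (fun z hz => ?_)
    fun M hM => ?_
  · have := orderOf_dvd_natCard (⟨d, hdO⟩ : centralizerPPrimeCore 2 a)
    rwa [Subgroup.orderOf_mk, ← Subgroup.orderOf_mk d (mem_inf.1 hd).2] at this
  · exact (mem_centralizer_iff.1 (mem_inf.1 (core'_le _ hmem)).2 z hz).symm
  rcases h.sep b hb hb1 M hM with hf | hf
  · exact mem_fixing.1 (h.inter_le_fixing hFT ha hb hM hf hd)
  · refine mem_fixing.1 (h.symm.inter_le_fixing hFT (sup_comm A₁ A₂ ▸ ha) (sup_comm A₁ A₂ ▸ hb) hM hf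
      ⟨?_, (mem_inf.1 hd).2⟩)
    exact mem_inf.2 ⟨(mem_inf.1 (mem_inf.1 hd).1).2, (mem_inf.1 (mem_inf.1 hd).1).1⟩

/-- One half of balance. -/
theorem Separated.inter_le_factor {a b : G} (ha : a ∈ A₁ ⊔ A₂) (hb : b ∈ A₁ ⊔ A₂) (hb1 : b ≠ 1) :
    theta A₁ A₂ a ⊓ centralizer ({b} : Set G) ≤
      ⁅centralizerPPrimeCore 2 b, A₁⁆ ⊔ (centralizerPPrimeCore 2 b ⊓ core' 2 (centralizer (A₁ : Set G))) := by
  set D := theta A₁ A₂ a ⊓ centralizer ({b} : Set G)
  have hA1D : A₁ ≤ normalizer (D : Set G) := le_sup_left.trans (h.le_normalizer_inter ha hb)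
  have hDb : D ≤ centralizerPPrimeCore 2 b := h.inter_le_core hFT ha hb hb1
  have hsol : Group.IsSolvable ↥A₁ := by
    haveI := h.isPGroup₁.isNilpotent
    infer_instance
  rw [← Coprime.commutator_sup_centralizer hA1D (h.coprime₁
    ((coprime_centralizerPPrimeCore b).coprime_dvd_left (card_dvd_of_le hDb))) (Or.inl hsol)]
  refine sup_le_sup (commutator_mono hDb le_rfl) (fun z hz => ?_)
  obtain ⟨hzD, hzA⟩ := mem_inf.1 hz
  exact mem_inf.2 ⟨hDb hzD, h.fixed_sup_le_core hFT ha ⟨(mem_inf.1 (mem_inf.1 hzD).1).1, hzA⟩⟩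

/-- **Goldschmidt's functor is an `A`-signalizer functor.** -/
theorem Separated.isSignalizerFunctor :
    Cfsg.IsSignalizerFunctor 2 (A₁ ⊔ A₂) (theta A₁ A₂) := by
  refine ⟨fun a ha _ => (h.theta_le_core ha).trans (centralizerPPrimeCore_le a), fun a ha _ h2 => ?_,
    fun a ha _ b hb x hx => (mem_normalizer_iff.1 (h.theta_invariant ha hb) x).1 hx,
    fun a ha _ b hb hb1 => le_inf (h.inter_le_factor hFT ha hb hb1) ?_⟩
  · have := ((coprime_centralizerPPrimeCore a).coprime_dvd_left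
      (card_dvd_of_le (h.theta_le_core ha))).symm
    exact absurd h2 (Nat.prime_two.coprime_iff_not_dvd.1 this)
  · have h1 := h.symm.inter_le_factor hFT (sup_comm A₁ A₂ ▸ ha) (sup_comm A₁ A₂ ▸ hb) hb1
    exact (inf_le_inf_right _ (inf_comm _ _).le).trans h1

end Cfsg.Agent.GoldschmidtFunctor
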