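import Cfsg.Agent.Lib.Balance.Components
import Cfsg.Agent.Lib.Balance.PComp

/-!
# Elements of odd order acting on the components modulo the odd core

Tools for Goldschmidt's functor: an odd subgroup centralising an element `a` and normalised by `C(a)` maps
into `O(C(a) ∩ C(O_2))`; criteria for centralising a component.
-/

set_option autoImplicit false

namespace Cfsg.Agent.GoldschmidtFunctor

open Subgroup
open scoped commutatorElement
open Cfsg (pCore pPrimeCore IsComponent)
open Cfsg.Agent.Balance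

universe u

variable {X : Type u} [Group X] [Finite X]

/-- An element of a subgroup of odd order normalised by a component centralises it if it normalises it. -/
theorem commute_of_normalized (h : pPrimeCore 2 X = ⊥) {K N : Subgroup X} (hK : IsComponent K)
    (hN : (Nat.card N).Coprime 2) (hKN : K ≤ normalizer (N : Set X)) {n : X} (hn : n ∈ N)
    (hnK : n ∈ normalizer (K : Set X)) : ∀ x ∈ K, Commute n x := by
  haveI : Fact (Nat.Prime 2) := ⟨Nat.prime_two⟩
  refine commute_of_commutator_central (Components.IsComponent.commutator_self hK) (fun x hx y hy => ?_)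
    fun x hx => (mem_normalizer_iff.1 hnK x).1 hx
  have hw : n * x * n⁻¹ * x⁻¹ ∈ K ⊓ N := by
    refine ⟨K.mul_mem ((mem_normalizer_iff.1 hnK x).1 hx) (K.inv_mem hx), ?_⟩
    have := N.mul_mem hn ((mem_normalizer_iff.1 (hKN hx) _).1 (N.inv_mem hn))
    simpa [mul_assoc] using this
  rcases Components.IsQuasisimple.eq_or_commutator_eq_bot hK.2 (inf_le_left : K ⊓ N ≤ K)
    ((le_inf le_normalizer hKN).trans inf_normalizer_le_normalizer_inf) with he | he
  · exfalso
    obtain ⟨c, hc, ⟨k, hk⟩, hcZ⟩ := exists_pElement_component (p := 2) h hK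
    have hcN : c ∈ N := (he.symm ▸ hc : c ∈ K ⊓ N).2
    have : c = 1 := orderOf_eq_one_iff.1 (Nat.eq_one_of_dvd_coprimes
      ((hN.coprime_dvd_left (Subgroup.orderOf_dvd_natCard N hcN)).pow_right k) dvd_rfl
      (orderOf_dvd_of_pow_eq_one hk))
    exact hcZ (this ▸ one_mem _)
  · exact mem_centralizer_iff.1 (Components.le_centralizer_of_commutator_eq_bot he hy) _ hw

/-- If the commutators of `α` with a component commute with those of `ν`, one of the two centralises it. -/
theorem commute_or_commute {K : Subgroup X} (hK : IsComponent K) {α ν : X}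
    (hα : ∀ x ∈ K, α * x * α⁻¹ ∈ K) (hν : ∀ x ∈ K, ν * x * ν⁻¹ ∈ K)
    (hcomm : ∀ x ∈ K, ∀ y ∈ K, Commute (α * x * α⁻¹ * x⁻¹) (ν * y * ν⁻¹ * y⁻¹)) :
    (∀ x ∈ K, Commute α x) ∨ (∀ x ∈ K, Commute ν x) := by
  set S : Set X := {z | ∃ x ∈ K, z = α * x * α⁻¹ * x⁻¹} with hS
  have hVK : Subgroup.closure S ≤ K := (closure_le _).2 fun z ⟨x, hx, hz⟩ =>
    hz ▸ K.mul_mem (hα x hx) (K.inv_mem hx)
  have hKV : K ≤ normalizer ((Subgroup.closure S : Subgroup X) : Set X) := by
    rw [le_normalizer_iff]
    intro m hm z hz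
    induction hz using Subgroup.closure_induction with
    | mem z hz =>
      obtain ⟨x, hx, rfl⟩ := hz
      have e : m * (α * x * α⁻¹ * x⁻¹) * m⁻¹ =
          (α * m * α⁻¹ * m⁻¹)⁻¹ * (α * (m * x) * α⁻¹ * (m * x)⁻¹) := by group
      rw [e]
      exact mul_mem (inv_mem (subset_closure ⟨m, hm, rfl⟩))
        (subset_closure ⟨m * x, K.mul_mem hm hx, rfl⟩)
    | one => simp
    | mul z z' _ _ ih ih' => simpa [mul_assoc] using mul_mem ih ih'
    | inv z _ ih => simpa [mul_assoc] using inv_mem ih
  rcases Components.IsQuasisimple.eq_or_commutator_eq_bot hK.2 hVK hKV with he | he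
  · refine Or.inr (commute_of_commutator_central (Components.IsComponent.commutator_self hK)
      (fun x hx y hy => ?_) hν)
    have hle : Subgroup.closure S ≤ centralizer ({ν * x * ν⁻¹ * x⁻¹} : Set X) :=
      (closure_le _).2 fun z ⟨x', hx', hz⟩ => mem_centralizer_singleton_iff.2
        (hz ▸ (hcomm x' hx' x hx).eq)
    exact (mem_centralizer_singleton_iff.1 (hle (he.symm ▸ hy : y ∈ Subgroup.closure S))).symm
  · exact Or.inl (commute_of_commutator_central (Components.IsComponent.commutator_self hK)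
      (fun x hx y hy => mem_centralizer_iff.1 (Components.le_centralizer_of_commutator_eq_bot he hy) _
        (subset_closure ⟨x, hx, rfl⟩)) hα)

omit [Finite X] in
/-- `[y, x]` centralises a subgroup normalised by `y` and centralised by `x`. -/
theorem commute_commutator_of_fixed {K : Subgroup X} {x y : X} (hy : y ∈ normalizer (K : Set X))
    (hx : ∀ k ∈ K, Commute x k) : ∀ k ∈ K, Commute ⁅y, x⁆ k := by
  intro k hk
  have hk' : y⁻¹ * k * y ∈ K := by simpa using (mem_normalizer_iff.1 (inv_mem hy) k).1 hk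
  show ⁅y, x⁆ * k = k * ⁅y, x⁆
  rw [commutatorElement_def]
  calc y * x * y⁻¹ * x⁻¹ * k = y * x * y⁻¹ * (x⁻¹ * k) := by group
    _ = y * x * y⁻¹ * (k * x⁻¹) := by rw [(hx k hk).inv_left.eq]
    _ = y * (x * (y⁻¹ * k * y)) * y⁻¹ * x⁻¹ := by group
    _ = y * ((y⁻¹ * k * y) * x) * y⁻¹ * x⁻¹ := by rw [(hx _ hk').eq]
    _ = k * (y * x * y⁻¹ * x⁻¹) := by group

/-- A subgroup of odd order centralising the `2`-element `a` and normalised by `C(a)` maps into
`O(C(ā) ∩ C(O_2))`. -/
theorem map_le_core'_centR {a : X} (ha : IsPGroup 2 (zpowers a)) {D : Subgroup X}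
    (hcop : (Nat.card D).Coprime 2) (hDa : D ≤ centralizer ({a} : Set X))
    (hN : centralizer ({a} : Set X) ≤ normalizer (D : Set X)) :
    D.map (QuotientGroup.mk' (pPrimeCore 2 X)) ≤
      core' 2 (centR 2 (zpowers (QuotientGroup.mk' (pPrimeCore 2 X) a))) := by
  haveI : Fact (Nat.Prime 2) := ⟨Nat.prime_two⟩
  set q := QuotientGroup.mk' (pPrimeCore 2 X) with hq
  have hker : (Nat.card ↥q.ker).Coprime 2 := by
    rw [hq, QuotientGroup.ker_mk']
    exact PCore.coprime_card_pPrimeCore
  refine le_core'_centR ?_ ?_ ?_ (hcop.coprime_dvd_left (card_map_dvd _ q))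
  · rw [← MonoidHom.map_zpowers]
    exact ha.map q
  · rintro _ ⟨d, hd, rfl⟩
    refine mem_centralizer_iff.2 ?_
    rintro _ ⟨i, rfl⟩
    have : Commute d a := mem_centralizer_singleton_iff.1 (hDa hd)
    exact ((this.map q).zpow_right i).eq.symm
  · intro y hy
    obtain ⟨g, rfl⟩ := QuotientGroup.mk'_surjective (pPrimeCore 2 X) y
    obtain ⟨n, hn, he⟩ := exists_mem_centralizer_of_map q hker ha (g := g) fun r ⟨i, hi⟩ => by
      subst hi
      rw [map_zpow]
      exact Commute.zpow_right (show Commute (q g) (q a) from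
        (mem_centralizer_iff.1 hy (q a) (mem_zpowers _)).symm) i
    rw [← he]
    exact le_normalizer_map q (mem_map_of_mem q
      (hN (mem_centralizer_singleton_iff.2 (mem_centralizer_iff.1 hn a (mem_zpowers a)).symm)))

/-- An odd element centralising `O_2` and all components modulo the odd core lies in it. -/
theorem mem_oddCore {d : X} (hd : (orderOf d).Coprime 2)
    (hZ : ∀ z ∈ pCore 2 (X ⧸ pPrimeCore 2 X), Commute (QuotientGroup.mk' (pPrimeCore 2 X) d) z)
    (hE : ∀ K : Subgroup (X ⧸ pPrimeCore 2 X), IsComponent K → ∀ k ∈ K,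
      Commute (QuotientGroup.mk' (pPrimeCore 2 X) d) k) : d ∈ pPrimeCore 2 X := by
  haveI : Fact (Nat.Prime 2) := ⟨Nat.prime_two⟩
  refine (QuotientGroup.eq_one_iff d).1 (eq_one_of_centralizes (p := 2)
    PCore.pPrimeCore_quotient_self_eq_bot ?_ hZ hE)
  exact hd.coprime_dvd_left (orderOf_map_dvd (QuotientGroup.mk' (pPrimeCore 2 X)) d)

end Cfsg.Agent.GoldschmidtFunctor
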