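import Cfsg.Prelude.Def_Balance
import Cfsg.Agent.Lib.GoldschmidtFunctor.Core
import Cfsg.Agent.Lib.Balance.LBalanceTwo
import Cfsg.Agent.Lib.FTConsumersB.FixedPointGen

/-!
# Core-separated four-subgroups: fixed points in `[O(C(a)), A_i]`

`C(A_i) ∩ [O(C(a)), A_i]` lies in `O(C(A_i))`: it is generated by pieces `C(A_i) ∩ [C(c), A_i]`, and a
component of `C(A_i)` modulo its core projects into the components of `C(c)` centralised by `A_i`, on
which such a piece acts trivially, and those centralised by the other four-subgroup.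
-/

set_option autoImplicit false

namespace Cfsg.Agent.GoldschmidtFunctor

open Subgroup
open scoped commutatorElement
open Cfsg (pCore pPrimeCore IsComponent IsPComponent centralizerPPrimeCore)
open Cfsg.Agent.Balance

universe u

variable {G : Type u} [Group G] [Finite G]

/-- The elements of `S` centralise `L` modulo the odd core of `C(c)`. -/
def Fixes (c : G) (S : Subgroup G)
    (L : Subgroup (↥(centralizer ({c} : Set G)) ⧸ pPrimeCore 2 ↥(centralizer ({c} : Set G)))) : Prop :=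
  ∀ x : ↥(centralizer ({c} : Set G)), (x : G) ∈ S → ∀ l ∈ L,
    Commute (QuotientGroup.mk' (pPrimeCore 2 ↥(centralizer ({c} : Set G))) x) l

/-- Commuting four-groups, one of which centralises each component modulo core of every `C(c)`. -/
structure Separated (A₁ A₂ : Subgroup G) : Prop where
  el₁ : Cfsg.IsElementaryAbelian 2 A₁
  el₂ : Cfsg.IsElementaryAbelian 2 A₂
  card₁ : Nat.card A₁ = 4
  card₂ : Nat.card A₂ = 4
  comm : ∀ x ∈ A₁, ∀ y ∈ A₂, x * y = y * x
  sep : ∀ c ∈ A₁ ⊔ A₂, c ≠ 1 →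
    ∀ L : Subgroup (↥(centralizer ({c} : Set G)) ⧸ pPrimeCore 2 ↥(centralizer ({c} : Set G))),
      IsComponent L → Fixes c A₁ L ∨ Fixes c A₂ L

theorem separated_of_isCoreSeparated {A₁ A₂ : Subgroup G} (h : Cfsg.IsCoreSeparated A₁ A₂) :
    Separated A₁ A₂ := by
  obtain ⟨h1, h2, c1, c2, -, -, hc, hsep⟩ := h
  refine ⟨h1, h2, c1, c2, hc, fun c hcA hc1 L hL => ?_⟩
  obtain ⟨J, hJ, rfl⟩ := exists_isPComponent_of_isComponent hL
  refine (hsep c hcA hc1 J hJ).imp ?_ ?_ <;>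
  · intro hle x hx l hl
    obtain ⟨y, hy, rfl⟩ := hl
    obtain ⟨z, hz, hze⟩ := hle (commutator_mem_commutator (mem_map_of_mem _ hy) hx)
    have hze' : z = ⁅y, x⁆ := Subtype.ext (hze.trans (by simp [commutatorElement_def]))
    have h0 : QuotientGroup.mk' (pPrimeCore 2 ↥(centralizer ({c} : Set G))) ⁅y, x⁆ = 1 :=
      (QuotientGroup.eq_one_iff _).2 (hze' ▸ hz)
    rw [map_commutatorElement] at h0
    exact (commutatorElement_eq_one_iff_mul_comm.1 h0).symm

theorem Separated.symm {A₁ A₂ : Subgroup G} (h : Separated A₁ A₂) : Separated A₂ A₁ :=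
  ⟨h.el₂, h.el₁, h.card₂, h.card₁, fun x hx y hy => (h.comm y hy x hx).symm,
    fun c hc hc1 L hL => (h.sep c (sup_comm A₁ A₂ ▸ hc) hc1 L hL).symm⟩

variable {A₁ A₂ : Subgroup G}

theorem Separated.comm₁ (h : Separated A₁ A₂) {x y : G} (hx : x ∈ A₁) (hy : y ∈ A₁) : x * y = y * x :=
  congrArg Subtype.val (h.el₁.1.is_comm.comm (⟨x, hx⟩ : A₁) ⟨y, hy⟩)

theorem Separated.comm_all (h : Separated A₁ A₂) : ∀ {x : G}, x ∈ A₁ ⊔ A₂ → ∀ {y : G}, y ∈ A₁ ⊔ A₂ →
    x * y = y * x := by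
  have hsub : ∀ z : G, (∀ w ∈ A₁, z * w = w * z) → (∀ w ∈ A₂, z * w = w * z) →
      A₁ ⊔ A₂ ≤ centralizer ({z} : Set G) := fun z hz₁ hz₂ =>
    sup_le (fun w hw => mem_centralizer_singleton_iff.2 (hz₁ w hw).symm)
      (fun w hw => mem_centralizer_singleton_iff.2 (hz₂ w hw).symm)
  intro x hx y hy
  refine (mem_centralizer_singleton_iff.1 (?_ : x ∈ centralizer ({y} : Set G)))
  refine hsub y (fun w hw => ?_) (fun w hw => ?_) hx
  · exact (mem_centralizer_singleton_iff.1 (hsub w (fun v hv => h.comm₁ hw hv)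
      (fun v hv => h.comm w hw v hv) hy))
  · exact (mem_centralizer_singleton_iff.1 (hsub w (fun v hv => (h.comm v hv w hw).symm)
      (fun v hv => h.symm.comm₁ hw hv) hy))

theorem Separated.le_centralizer (h : Separated A₁ A₂) {a : G} (ha : a ∈ A₁ ⊔ A₂) :
    A₁ ⊔ A₂ ≤ centralizer ({a} : Set G) :=
  fun _ hy => mem_centralizer_singleton_iff.2 (h.comm_all hy ha)

theorem Separated.mem_centralizer₁ (h : Separated A₁ A₂) {a : G} (ha : a ∈ A₁ ⊔ A₂) :
    a ∈ centralizer (A₁ : Set G) :=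
  mem_centralizer_iff.2 fun _ hx => h.comm_all (mem_sup_left hx) ha

theorem Separated.exists_mul (h : Separated A₁ A₂) {a : G} (ha : a ∈ A₁ ⊔ A₂) :
    ∃ x ∈ A₁, ∃ y ∈ A₂, a = x * y := by
  rw [← closure_eq A₁, ← closure_eq A₂, ← Subgroup.closure_union] at ha
  induction ha using Subgroup.closure_induction with
  | mem z hz =>
    rcases hz with hz | hz
    · exact ⟨z, hz, 1, one_mem _, (mul_one z).symm⟩
    · exact ⟨1, one_mem _, z, hz, (one_mul z).symm⟩
  | one => exact ⟨1, one_mem _, 1, one_mem _, (one_mul 1).symm⟩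
  | mul _ _ _ _ ih ih' =>
    obtain ⟨x, hx, y, hy, rfl⟩ := ih
    obtain ⟨x', hx', y', hy', rfl⟩ := ih'
    exact ⟨x * x', mul_mem hx hx', y * y', mul_mem hy hy', by
      rw [mul_assoc x y, ← mul_assoc y x', ← h.comm x' hx' y hy]; group⟩
  | inv _ _ ih =>
    obtain ⟨x, hx, y, hy, rfl⟩ := ih
    exact ⟨x⁻¹, inv_mem hx, y⁻¹, inv_mem hy, by
      rw [mul_inv_rev]; exact (h.comm _ (inv_mem hx) _ (inv_mem hy)).symm⟩

theorem Separated.isPGroup_zpowers (h : Separated A₁ A₂) {a : G} (ha : a ∈ A₁ ⊔ A₂) :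
    IsPGroup 2 (zpowers a) := by
  obtain ⟨x, hx, y, hy, rfl⟩ := h.exists_mul ha
  intro z
  obtain ⟨i, hi⟩ := z.2
  refine ⟨1, Subtype.ext ?_⟩
  show (z : G) ^ (2 ^ 1) = 1
  rw [← hi, pow_one, ← zpow_natCast, ← zpow_mul, mul_comm, zpow_mul, zpow_natCast,
    Commute.mul_pow (h.comm x hx y hy), h.el₁.2 x hx, h.el₂.2 y hy, one_mul, one_zpow]

theorem Separated.coprime₁ (h : Separated A₁ A₂) {O : Subgroup G} (hO : (Nat.card O).Coprime 2) :
    (Nat.card A₁).Coprime (Nat.card O) := by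
  rw [h.card₁]
  exact (hO.pow_right 2).symm

theorem coprime_centralizerPPrimeCore (a : G) :
    (Nat.card ↥(centralizerPPrimeCore 2 a)).Coprime 2 := by
  rw [centralizerPPrimeCore, card_map_of_injective (Subgroup.subtype_injective _)]
  exact PCore.coprime_card_pPrimeCore

omit [Finite G] in
theorem le_normalizer_centralizerPPrimeCore (a : G) :
    centralizer ({a} : Set G) ≤ normalizer (centralizerPPrimeCore 2 a : Set G) :=
  le_normalizer_core' _

omit [Finite G] in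
theorem centralizerPPrimeCore_le (a : G) : centralizerPPrimeCore 2 a ≤ centralizer ({a} : Set G) :=
  map_subtype_le _

/-- In `C(c)`, an odd subgroup centralising `a ∈ C(c)` and normalised by `C(a)` normalises every component. -/
theorem mem_normalizer_component {c a : G} (ha : a ∈ centralizer ({c} : Set G))
    (ha2 : IsPGroup 2 (zpowers a)) {D : Subgroup G} (hD : (Nat.card D).Coprime 2)
    (hDa : D ≤ centralizer ({a} : Set G))
    (hN : centralizer ({a} : Set G) ⊓ centralizer ({c} : Set G) ≤ normalizer (D : Set G))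
    (hDc : D ≤ centralizer ({c} : Set G))
    {L : Subgroup (↥(centralizer ({c} : Set G)) ⧸ pPrimeCore 2 ↥(centralizer ({c} : Set G)))}
    (hL : IsComponent L) : ∀ y : ↥(centralizer ({c} : Set G)), (y : G) ∈ D →
    QuotientGroup.mk' (pPrimeCore 2 ↥(centralizer ({c} : Set G))) y ∈ normalizer (L : Set _) := by
  haveI : Fact (Nat.Prime 2) := ⟨Nat.prime_two⟩
  set H := centralizer ({c} : Set G)
  set q := QuotientGroup.mk' (pPrimeCore 2 ↥H)
  have ha2' : IsPGroup 2 (zpowers (⟨a, ha⟩ : H)) := fun z => by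
    obtain ⟨i, hi⟩ := z.2
    obtain ⟨k, hk⟩ := ha2 ⟨a ^ i, i, rfl⟩
    refine ⟨k, Subtype.ext (Subtype.ext ?_)⟩
    have hk' : (a ^ i) ^ 2 ^ k = 1 := congrArg Subtype.val hk
    have hz : ((z : H) : G) = a ^ i := by rw [← hi]; simp
    show ((z : H) : G) ^ 2 ^ k = 1
    rw [hz, hk']
  have h1 := map_le_core'_centR ha2' (D := D.subgroupOf H)
    (hD.coprime_dvd_left (by rw [Nat.card_congr (subgroupOfEquivOfLe hDc).toEquiv]))
    (fun z hz => mem_centralizer_singleton_iff.2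
      (Subtype.ext (mem_centralizer_singleton_iff.1 (hDa hz))))
    (fun z hz => by
      have hz' : (z : G) ∈ normalizer (D : Set G) := hN (mem_inf.2
        ⟨mem_centralizer_singleton_iff.2 (congrArg Subtype.val (mem_centralizer_singleton_iff.1 hz)), z.2⟩)
      rw [mem_normalizer_iff] at hz' ⊢
      exact fun w => hz' (w : G))
  intro y hy
  refine mem_normalizer_of_mem_core' PCore.pPrimeCore_quotient_self_eq_bot ?_
    (h1 (mem_map_of_mem q (mem_subgroupOf.2 hy : y ∈ D.subgroupOf H))) hL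
  rw [← MonoidHom.map_zpowers]
  exact ha2'.map q

/-- The subgroup of elements of `H` commuting with `M` modulo the odd core, in the ambient group. -/
def fixing (H : Subgroup G) (M : Subgroup (↥H ⧸ pPrimeCore 2 ↥H)) : Subgroup G :=
  ((centralizer (M : Set (↥H ⧸ pPrimeCore 2 ↥H))).comap
    (QuotientGroup.mk' (pPrimeCore 2 ↥H))).map H.subtype

omit [Finite G] in
theorem mem_fixing {H : Subgroup G} {M : Subgroup (↥H ⧸ pPrimeCore 2 ↥H)} {w : H} :
    (w : G) ∈ fixing H M ↔ ∀ m ∈ M, Commute (QuotientGroup.mk' (pPrimeCore 2 ↥H) w) m := by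
  constructor
  · rintro ⟨v, hv, he⟩ m hm
    obtain rfl : v = w := Subtype.ext he
    exact (mem_centralizer_iff.1 hv m hm).symm
  · exact fun h => mem_map_of_mem _ (mem_centralizer_iff.2 fun m hm => (h m hm).eq.symm)

/-- A piece `C(A₁) ∩ [O(C(a)) ∩ C(c), A₁]` centralises a component `M` of `C(A₁)` modulo core which `a`
normalises and does not centralise. -/
theorem Separated.piece_le_fixing (h : Separated A₁ A₂) {a c : G} (ha : a ∈ A₁ ⊔ A₂) (hc : c ∈ A₁)
    (hc1 : c ≠ 1)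
    {M : Subgroup (↥(centralizer (A₁ : Set G)) ⧸ pPrimeCore 2 ↥(centralizer (A₁ : Set G)))}
    (hM : IsComponent M)
    (hαM : QuotientGroup.mk' (pPrimeCore 2 ↥(centralizer (A₁ : Set G))) ⟨a, h.mem_centralizer₁ ha⟩ ∈
      normalizer (M : Set _))
    (hαne : ¬ ∀ m ∈ M, Commute
      (QuotientGroup.mk' (pPrimeCore 2 ↥(centralizer (A₁ : Set G))) ⟨a, h.mem_centralizer₁ ha⟩) m)
    (hνM : ∀ w : ↥(centralizer (A₁ : Set G)), (w : G) ∈ centralizerPPrimeCore 2 a →
      QuotientGroup.mk' (pPrimeCore 2 ↥(centralizer (A₁ : Set G))) w ∈ normalizer (M : Set _)) :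
    centralizer (A₁ : Set G) ⊓ ⁅centralizerPPrimeCore 2 a ⊓ centralizer ({c} : Set G), A₁⁆ ≤
      fixing (centralizer (A₁ : Set G)) M := by
  haveI : Fact (Nat.Prime 2) := ⟨Nat.prime_two⟩
  set H := centralizer (A₁ : Set G) with hH
  set qH := QuotientGroup.mk' (pPrimeCore 2 ↥H) with hqH
  set Hc := centralizer ({c} : Set G) with hHc
  set qc := QuotientGroup.mk' (pPrimeCore 2 ↥Hc) with hqc
  have hcA : c ∈ A₁ ⊔ A₂ := mem_sup_left hc
  have hHle : H ≤ Hc := centralizer_le (Set.singleton_subset_iff.2 hc)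
  have hAle : A₁ ⊔ A₂ ≤ Hc := h.le_centralizer hcA
  obtain ⟨ai, hai, ak, hak, rfl⟩ := h.exists_mul ha
  set D := centralizerPPrimeCore 2 (ai * ak) ⊓ Hc with hD
  -- `C(c)` modulo core
  set R := A₁.subgroupOf Hc with hR
  have hRp : IsPGroup 2 R := fun z => ⟨1, Subtype.ext (Subtype.ext (by
    simpa using h.el₁.2 _ z.2))⟩
  set ι : ↥H →* ↥Hc := inclusion hHle with hι
  have hrange : ι.range = centralizer (R : Set Hc) := by
    ext z
    constructor
    · rintro ⟨w, rfl⟩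
      exact mem_centralizer_iff.2 fun r hr => Subtype.ext (mem_centralizer_iff.1 w.2 _ hr)
    · intro hz
      refine ⟨⟨z, mem_centralizer_iff.2 fun x hx => ?_⟩, rfl⟩
      exact congrArg Subtype.val (mem_centralizer_iff.1 hz ⟨x, hAle (mem_sup_left hx)⟩ hx)
  obtain ⟨J, hJ, hJM⟩ := exists_isPComponent_of_isComponent hM
  have hJlay : (J.map ι).map qc ≤ Cfsg.layer (↥Hc ⧸ pPrimeCore 2 ↥Hc) := by
    have hP := isPQT_of_isPComponent hJ
    have hP' : IsPQT 2 (J.map ι) := hP.map ι fun he => hP.ne_bot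
      ((map_eq_bot_iff_of_injective _ (inclusion_injective hHle)).1 he)
    have hle : J.map ι ≤ centralizer (R : Set Hc) := hrange ▸ map_le_range ι J
    have hsn : ((J.map ι).subgroupOf (normalizer (R : Set Hc))).IsSubnormal := by
      refine isSubnormal_subgroupOf_trans hle (centralizer_le_normalizer _) ?_ ?_
      · rw [← hrange]
        have : (J.map ι).subgroupOf ι.range = J.map ι.rangeRestrict := by
          ext ⟨z, hz⟩
          constructor
          · rintro ⟨w, hw, he⟩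
            exact ⟨w, hw, Subtype.ext he⟩
          · rintro ⟨w, hw, he⟩
            exact ⟨w, hw, congrArg Subtype.val he⟩
        rw [this]
        exact hJ.1.map ι.rangeRestrict_surjective
      · exact (normal_subgroupOf_of_le_normalizer
          (normalizer_le_normalizer_centralizer (R : Set Hc))).isSubnormal
    refine (map_mono (IsPQT.le_pLayer_two hRp hP' (hle.trans (centralizer_le_normalizer _)) hsn)).trans ?_
    rw [Cfsg.pLayer, (gc_map_comap qc).l_sSup]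
    exact iSup₂_le fun K hK => le_sSup hK.2.1
  set X := ↥Hc ⧸ pPrimeCore 2 ↥Hc
  let E₁ : Subgroup X := ⨆ L : {L : Subgroup X // IsComponent L ∧ Fixes c A₁ L}, (L : Subgroup X)
  let E₂ : Subgroup X := ⨆ L : {L : Subgroup X // IsComponent L ∧ ¬ Fixes c A₁ L}, (L : Subgroup X)
  have h12 : ∀ e₁ ∈ E₁, ∀ e₂ ∈ E₂, Commute e₁ e₂ := by
    have hle : E₁ ≤ centralizer (E₂ : Set X) := iSup_le fun L => le_centralizer_iff.1 <| iSup_le fun L' =>
      Components.le_centralizer_of_commutator_eq_bot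
        (Components.IsComponent.commutator_eq_bot L'.2.1 L.2.1 fun he => L'.2.2 (he ▸ L.2.2))
    exact fun e₁ he₁ e₂ he₂ => (mem_centralizer_iff.1 (hle he₁) e₂ he₂).symm
  have hlay : Cfsg.layer X ≤ E₁ ⊔ E₂ := sSup_le fun L hL => by
    by_cases hf : Fixes c A₁ L
    · exact le_sup_of_le_left (le_iSup (fun L : {L : Subgroup X // IsComponent L ∧ Fixes c A₁ L} =>
        (L : Subgroup X)) ⟨L, hL, hf⟩)
    · exact le_sup_of_le_right (le_iSup (fun L : {L : Subgroup X // IsComponent L ∧ ¬ Fixes c A₁ L} =>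
        (L : Subgroup X)) ⟨L, hL, hf⟩)
  have hdec : ∀ x ∈ J.map ι, ∃ e₁ ∈ E₁, ∃ e₂ ∈ E₂, qc x = e₁ * e₂ := by
    intro x hx
    have hn : E₂ ≤ normalizer (E₁ : Set X) := fun e he =>
      centralizer_le_normalizer _ (mem_centralizer_iff.2 fun e' he' => h12 e' he' e he)
    have hmem := hlay (hJlay (mem_map_of_mem qc hx))
    rw [← SetLike.mem_coe, coe_mul_of_right_le_normalizer_left E₁ E₂ hn] at hmem
    obtain ⟨e₁, he₁, e₂, he₂, he⟩ := hmem
    exact ⟨e₁, he₁, e₂, he₂, he.symm⟩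
  -- `ak` normalises `E₁` and centralises `E₂`
  set k : ↥Hc := ⟨ak, hAle (mem_sup_right hak)⟩
  have hkE₁ : ∀ e ∈ E₁, qc k * e * (qc k)⁻¹ ∈ E₁ := by
    intro e he
    have hle : E₁ ≤ E₁.comap (MulAut.conj (qc k)).toMonoidHom := iSup_le fun L => map_le_iff_le_comap.1 <| by
      refine le_iSup (fun L : {L : Subgroup X // IsComponent L ∧ Fixes c A₁ L} => (L : Subgroup X))
        ⟨_, Components.IsComponent.conj L.2.1 (qc k), fun x hx l hl => ?_⟩
      obtain ⟨l', hl', rfl⟩ := hl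
      have hxk : Commute (qc x) (qc k) := by
        refine Commute.map (Subtype.ext ?_) qc
        exact h.comm x hx ak hak
      exact (hxk.mul_right (L.2.2 x hx l' hl')).mul_right hxk.inv_right
    exact hle he
  have hkE₂ : ∀ e ∈ E₂, Commute (qc k) e := by
    have hle : E₂ ≤ centralizer ({qc k} : Set X) := iSup_le fun L l hl => by
      rcases h.sep c hcA hc1 L.1 L.2.1 with hf | hf
      · exact absurd hf L.2.2
      · exact mem_centralizer_singleton_iff.2 (hf k hak l hl).eq.symm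
    exact fun e he => (mem_centralizer_singleton_iff.1 (hle he)).symm
  have hak1 : ∀ x ∈ J.map ι, qc k * qc x * (qc k)⁻¹ * (qc x)⁻¹ ∈ E₁ := by
    intro x hx
    obtain ⟨e₁, he₁, e₂, he₂, he⟩ := hdec x hx
    rw [he, mul_inv_rev]
    have : qc k * (e₁ * e₂) * (qc k)⁻¹ * (e₂⁻¹ * e₁⁻¹) = qc k * e₁ * (qc k)⁻¹ * e₁⁻¹ := by
      calc qc k * (e₁ * e₂) * (qc k)⁻¹ * (e₂⁻¹ * e₁⁻¹)
          = qc k * e₁ * (qc k)⁻¹ * (qc k * e₂) * (qc k)⁻¹ * e₂⁻¹ * e₁⁻¹ := by group
        _ = qc k * e₁ * (qc k)⁻¹ * e₁⁻¹ := by rw [(hkE₂ e₂ he₂).eq]; group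
    rw [this]
    exact mul_mem (hkE₁ e₁ he₁) (inv_mem he₁)
  -- the piece centralises `E₁` and normalises `E₂`
  have hDle : ⁅D, A₁⁆ ≤ D := Coprime.commutator_le_left_of_le_normalizer fun x hx =>
    inf_normalizer_le_normalizer_inf ⟨le_normalizer_centralizerPPrimeCore _
      (h.le_centralizer ha (mem_sup_left hx)), le_normalizer (hAle (mem_sup_left hx))⟩
  have hnorm : ∀ {L : Subgroup X}, IsComponent L → ∀ y : ↥Hc, (y : G) ∈ D →
      qc y ∈ normalizer (L : Set X) := fun hL y hy =>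
    mem_normalizer_component (hAle ha) (h.isPGroup_zpowers ha)
      ((coprime_centralizerPPrimeCore (ai * ak)).coprime_dvd_left (card_dvd_of_le inf_le_left))
      (inf_le_left.trans (centralizerPPrimeCore_le _))
      (fun z hz => inf_normalizer_le_normalizer_inf
        ⟨le_normalizer_centralizerPPrimeCore _ hz.1, le_normalizer hz.2⟩) inf_le_right hL y hy
  have hfix₁ : ∀ w : ↥Hc, (w : G) ∈ ⁅D, A₁⁆ → ∀ e ∈ E₁, Commute (qc w) e := by
    have hgen : ⁅D, A₁⁆ ≤ fixing Hc E₁ := by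
      refine commutator_le.2 fun y hy x hx => ?_
      refine (mem_fixing (w := ⁅(⟨y, hy.2⟩ : ↥Hc), ⟨x, hAle (mem_sup_left hx)⟩⁆)).2 ?_ |> fun hh => by
        simpa [commutatorElement_def] using hh
      intro e he
      rw [map_commutatorElement]
      have hle : E₁ ≤ centralizer ({⁅qc ⟨y, hy.2⟩, qc ⟨x, hAle (mem_sup_left hx)⟩⁆} : Set X) :=
        iSup_le fun L l hl => mem_centralizer_singleton_iff.2
          (commute_commutator_of_fixed (hnorm L.2.1 _ hy)
            (fun l' hl' => L.2.2 _ hx l' hl') l hl).eq.symm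
      exact (mem_centralizer_singleton_iff.1 (hle he)).symm
    exact fun w hw e he => mem_fixing.1 (hgen hw) e he
  have hw2 : ∀ w : ↥Hc, (w : G) ∈ ⁅D, A₁⁆ → ∀ x ∈ J.map ι,
      qc w * qc x * (qc w)⁻¹ * (qc x)⁻¹ ∈ E₂ := by
    intro w hw x hx
    obtain ⟨e₁, he₁, e₂, he₂, he⟩ := hdec x hx
    have hwe : qc w * e₂ * (qc w)⁻¹ ∈ E₂ := by
      have hle : E₂ ≤ E₂.comap (MulAut.conj (qc w)).toMonoidHom := iSup_le fun L l hl =>
        mem_iSup_of_mem L ((mem_normalizer_iff.1 (hnorm L.2.1 w (hDle hw)) l).1 hl)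
      exact hle he₂
    have hu := mul_mem hwe (inv_mem he₂)
    have : qc w * (e₁ * e₂) * (qc w)⁻¹ * (e₂⁻¹ * e₁⁻¹) =
        e₁ * (qc w * e₂ * (qc w)⁻¹ * e₂⁻¹) * e₁⁻¹ := by
      calc qc w * (e₁ * e₂) * (qc w)⁻¹ * (e₂⁻¹ * e₁⁻¹)
          = (qc w * e₁) * e₂ * (qc w)⁻¹ * e₂⁻¹ * e₁⁻¹ := by group
        _ = (e₁ * qc w) * e₂ * (qc w)⁻¹ * e₂⁻¹ * e₁⁻¹ := by rw [(hfix₁ w hw e₁ he₁).eq]
        _ = _ := by group
    rw [he, mul_inv_rev, this, (h12 e₁ he₁ _ hu).eq, mul_inv_cancel_right]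
    exact hu
  -- conclusion in `C(A₁)` modulo core
  rintro w ⟨hwH, hw⟩
  refine (mem_fixing (w := ⟨w, hwH⟩)).2 ?_
  have hwD : w ∈ D := hDle hw
  have hmul : (⟨ai * ak, h.mem_centralizer₁ ha⟩ : ↥H) =
      ⟨ai, h.mem_centralizer₁ (mem_sup_left hai)⟩ * ⟨ak, h.mem_centralizer₁ (mem_sup_right hak)⟩ := rfl
  have hcentral : ∀ g : ↥H, Commute (qH ⟨ai, h.mem_centralizer₁ (mem_sup_left hai)⟩) (qH g) :=
    fun g => Commute.map (Subtype.ext (mem_centralizer_iff.1 g.2 ai hai)) qH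
  refine (commute_or_commute hM (fun x hx => (mem_normalizer_iff.1 hαM x).1 hx)
    (fun x hx => (mem_normalizer_iff.1 (hνM ⟨w, hwH⟩ (mem_inf.1 hwD).1) x).1 hx) ?_).resolve_left hαne
  intro x hx y hy
  rw [← hJM] at hx hy
  obtain ⟨x, hxJ, rfl⟩ := hx
  obtain ⟨y, hyJ, rfl⟩ := hy
  set s : ↥H := ⟨ak, h.mem_centralizer₁ (mem_sup_right hak)⟩
  set r : ↥H := ⟨ai, h.mem_centralizer₁ (mem_sup_left hai)⟩
  have hα : qH ⟨ai * ak, h.mem_centralizer₁ ha⟩ * qH x * (qH ⟨ai * ak, h.mem_centralizer₁ ha⟩)⁻¹ *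
      (qH x)⁻¹ = qH (s * x * s⁻¹ * x⁻¹) := by
    rw [hmul]
    simp only [map_mul, map_inv, mul_inv_rev]
    calc qH r * qH s * qH x * ((qH s)⁻¹ * (qH r)⁻¹) * (qH x)⁻¹
        = qH r * (qH s * qH x * (qH s)⁻¹) * (qH r)⁻¹ * (qH x)⁻¹ := by group
      _ = (qH s * qH x * (qH s)⁻¹) * qH r * (qH r)⁻¹ * (qH x)⁻¹ := by
          rw [(((hcentral s).mul_right (hcentral x)).mul_right (hcentral s).inv_right).eq]
      _ = _ := by group
  rw [hα, ← map_inv, ← map_inv, ← map_mul, ← map_mul, ← map_mul]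
  rw [← commutatorElement_eq_one_iff_commute, ← map_commutatorElement]
  refine (QuotientGroup.eq_one_iff _).2 ?_
  set z : ↥H := ⁅s * x * s⁻¹ * x⁻¹, ⟨w, hwH⟩ * y * ⟨w, hwH⟩⁻¹ * y⁻¹⁆
  have hz : qc (ι z) = 1 := by
    rw [map_commutatorElement, map_commutatorElement]
    refine commutatorElement_eq_one_iff_commute.2 (h12 _ ?_ _ ?_)
    · have := hak1 (ι x) (mem_map_of_mem ι hxJ)
      rw [show k = ι s from rfl] at this
      simpa only [map_mul, map_inv] using this
    · simpa only [map_mul, map_inv] using hw2 (ι ⟨w, hwH⟩) hw (ι y) (mem_map_of_mem ι hyJ)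
  haveI : ((pPrimeCore 2 ↥Hc).comap ι).Normal := Normal.comap inferInstance ι
  refine PCore.le_pPrimeCore ?_ (show z ∈ (pPrimeCore 2 ↥Hc).comap ι from
    (QuotientGroup.eq_one_iff (ι z)).1 hz)
  exact PCore.coprime_card_pPrimeCore.coprime_dvd_left (card_comap_dvd_of_injective _ ι
    (inclusion_injective hHle))

end Cfsg.Agent.GoldschmidtFunctor
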